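import Groth.Agent.Lib.MonoFact19.Basic
import Groth.Agent.Lib.OrbitQuot19.Basic
import Groth.Agent.Lib.SubGrp13.Basic
import Groth.Prelude.Def_RedSub

/-!
# Quotients by flat stabilizers and flat kernels

* `exists_factor`: flat cover followed by monomorphism for a morphism locally of finite type whose
  kernel pair is flat and locally of finite presentation over the source.
* `exists_orbitQuotient`, `exists_kernelQuotient`: the quotient by a flat stabilizer (resp. kernel)
  when the target is locally of finite type or the base is locally Noetherian.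
-/

universe u

set_option autoImplicit false
set_option linter.style.haveILetI false
set_option backward.isDefEq.respectTransparency.types false

open CategoryTheory CategoryTheory.Limits AlgebraicGeometry Opposite

noncomputable section

namespace Groth.Agent.QuotFlat20

open AlgSp Groth.Agent.AlgSpace

theorem exists_factor {X Y : Scheme.{u}} (f : X ⟶ Y) [LocallyOfFiniteType f]
    [hfp0 : LocallyOfFinitePresentation (pullback.fst f f)]
    [Flat (pullback.fst f f)] :
    ∃ (X' : Scheme.{u}) (f' : X ⟶ X') (f'' : X' ⟶ Y),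
      Surjective f' ∧ Flat f' ∧ LocallyOfFinitePresentation f' ∧ Mono f'' ∧ f' ≫ f'' = f := by
  let U : Over Y := Over.mk f
  let R : Over Y := Over.mk (pullback.fst f f ≫ f)
  let T : Over Y := Over.mk (𝟙 Y)
  let s : R ⟶ U := Over.homMk (pullback.fst f f) rfl
  let t : R ⟶ U := Over.homMk (pullback.snd f f) pullback.condition.symm
  have hlift : ∀ {T' : Over Y} (a b : T' ⟶ U), ∃ r : T' ⟶ R, r ≫ t = a ∧ r ≫ s = b := fun {T'} a b => by
    have w : b.left ≫ f = a.left ≫ f := (Over.w b).trans (Over.w a).symm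
    refine ⟨Over.homMk (pullback.lift b.left a.left w) ?_, ?_, ?_⟩
    · exact (pullback.lift_fst_assoc _ _ _ _).trans (Over.w b)
    · exact Over.OverMorphism.ext (pullback.lift_snd _ _ _)
    · exact Over.OverMorphism.ext (pullback.lift_fst _ _ _)
  have h : IsEqvRel s t :=
    { injective := fun T' r r' h₁ h₂ => Over.OverMorphism.ext
        (pullback.hom_ext (congrArg CommaMorphism.left h₂) (congrArg CommaMorphism.left h₁))
      equivalence := fun T' => ⟨fun a => hlift a a, fun {a b} _ => hlift b a, fun {a b c} _ _ => hlift a c⟩ }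
  have : Flat s.left := ‹Flat (pullback.fst f f)›
  have : LocallyOfFinitePresentation s.left := hfp0
  obtain ⟨w, ⟨hc⟩⟩ := nonempty_isColimit_quot s t
  let p := (QuotSh.repIsoUliftYoneda Scheme.fppfPrecoverage U).inv ≫ QuotSh.quotπ Scheme.fppfPrecoverage s t
  have : Sheaf.IsLocallySurjective p := isLocallySurjective_quotπ s t
  have sq : IsPullback ((yon Y).map t) ((yon Y).map s) p p := isPullback_of_isEqvRel h w hc
  obtain ⟨hF, hfl, hfp, hs⟩ := isAlgSpace_of_flat_kernelPair sq
  -- the quotient has at most one point over each scheme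
  have hsub : ∀ {Z : Sp Y} (z₁ z₂ : Z ⟶ QuotSh.quot Scheme.fppfPrecoverage s t), z₁ = z₂ := by
    intro Z z₁ z₂
    have : Sheaf.IsLocallySurjective (prod.map p p) := isLocallySurjective_prod_map p p
    have : Epi (prod.map p p) := (CategoryTheory.Sheaf.isLocallySurjective_iff_epi _).1 this
    have e : (prod.fst : QuotSh.quot Scheme.fppfPrecoverage s t ⨯ QuotSh.quot Scheme.fppfPrecoverage s t ⟶ _) =
        prod.snd := by
      rw [← cancel_epi (prod.map p p), prod.map_fst, prod.map_snd]
      refine hom_ext_yon fun T' z => ?_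
      obtain ⟨a, ha⟩ := (yon Y).map_surjective (z ≫ prod.fst)
      obtain ⟨b, hb⟩ := (yon Y).map_surjective (z ≫ prod.snd)
      obtain ⟨r, hr₁, hr₂⟩ := hlift a b
      rw [← Category.assoc z, ← Category.assoc z, ← ha, ← hb, ← hr₁, ← hr₂, Functor.map_comp, Functor.map_comp,
        Category.assoc, Category.assoc, sq.w]
    calc z₁ = prod.lift z₁ z₂ ≫ prod.fst := (prod.lift_fst _ _).symm
      _ = prod.lift z₁ z₂ ≫ prod.snd := congrArg (prod.lift z₁ z₂ ≫ ·) e
      _ = z₂ := prod.lift_snd _ _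
  -- the map to the final scheme
  let c : U ⟶ T := Over.homMk f (Category.comp_id f)
  have hcT : s ≫ c = t ≫ c := Over.OverMorphism.ext pullback.condition
  obtain ⟨j, hj⟩ := Cofork.IsColimit.desc' hc ((yon Y).map c)
    (by rw [← Functor.map_comp, ← Functor.map_comp, hcT])
  replace hj : p ≫ j = (yon Y).map c := hj
  have : Mono j := ⟨fun a b _ => hsub a b⟩
  have hpc : LocP @LocallyOfFiniteType ((yon Y).map c) :=
    locP_of_repWith (IsAlgSpace.yon_obj T) ((repWith_yon_map_iff _ _).2 (inferInstanceAs (LocallyOfFiniteType f)))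
  have hjl : LocP @LocallyOfFiniteType j :=
    AlgSpDescent.locP_of_fppf_comp (P := @LocallyOfFiniteType)
      (fun _ _ _ => AlgSpDescent.locallyOfFiniteType_of_fppf_comp)
      (IsAlgSpace.yon_obj U) hF (IsAlgSpace.yon_obj T) p j
      (surjective_map_of_repWith hs) (locP_of_repWith hF hfl) (locP_of_repWith hF hfp) (hj ▸ hpc)
  obtain ⟨W, ⟨e⟩⟩ := exists_iso_yon_of_mono_lft hF j hjl
  obtain ⟨π, hπ⟩ := (yon Y).map_surjective (p ≫ e.inv)
  have prop : ∀ (P : MorphismProperty Scheme.{u}) [P.IsStableUnderBaseChange], RepWith P p → P π.left := by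
    intro P _ hP
    have : RepWith P ((yon Y).map π) := by
      rw [hπ, repWith_respectsIso_right]
      exact hP
    exact (repWith_yon_map_iff _ _).1 this
  refine ⟨W.left, π.left, W.hom, prop @Surjective hs, prop @Flat hfl, prop @LocallyOfFinitePresentation hfp,
    ⟨fun {A} a b hab => ?_⟩, Over.w π⟩
  let a' : Over.mk (a ≫ W.hom) ⟶ W := Over.homMk a rfl
  let b' : Over.mk (a ≫ W.hom) ⟶ W := Over.homMk b hab.symm
  have : a' = b' := (yon Y).map_injective ((cancel_mono e.hom).1 (hsub _ _))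
  exact congrArg CommaMorphism.left this


end Groth.Agent.QuotFlat20

namespace Groth.Agent.QuotFlat20

open MonoidalCategory CartesianMonoidalCategory MonObj

variable {S : Scheme.{u}}

/-- A morphism over `S` with flat kernel pair is a flat cover followed by a monomorphism. -/
theorem exists_factor_over {A X : Over S} [LocallyOfFinitePresentation A.hom]
    (hX : LocallyOfFiniteType X.hom ∨ IsLocallyNoetherian S) (o : A ⟶ X)
    (hfl : Flat (pullback.fst o.left o.left)) :
    ∃ (Q : Over S) (p : A ⟶ Q) (i : Q ⟶ X), p ≫ i = o ∧ Surjective p.left ∧ Flat p.left ∧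
      LocallyOfFinitePresentation p.left ∧ Mono i ∧ LocallyOfFinitePresentation Q.hom := by
  rcases hX with h | h
  · exact OrbitQuot19.exists_factor_over o hfl
  haveI := h
  haveI : LocallyOfFiniteType (o.left ≫ X.hom) := by rw [Over.w o]; infer_instance
  haveI : LocallyOfFiniteType o.left := locallyOfFiniteType_of_comp o.left X.hom
  haveI : IsLocallyNoetherian A.left := LocallyOfFiniteType.isLocallyNoetherian A.hom
  haveI : LocallyOfFinitePresentation (pullback.fst o.left o.left) :=
    LocallyOfFinitePresentation.iff_locallyOfFiniteType.2 inferInstance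
  haveI := hfl
  obtain ⟨X', f', f'', h1, h2, h3, h4, e⟩ := exists_factor o.left
  haveI := h1; haveI := h2; haveI := h3; haveI := h4
  have hp : f' ≫ f'' ≫ X.hom = A.hom := by rw [reassoc_of% e, Over.w o]
  let i : Over.mk (f'' ≫ X.hom) ⟶ X := Over.homMk f''
  have hi : Mono i := ⟨fun a b h => Over.OverMorphism.ext ((cancel_mono f'').1 (congrArg CommaMorphism.left h))⟩
  refine ⟨Over.mk (f'' ≫ X.hom), Over.homMk f' hp, i, Over.OverMorphism.ext e, h1, h2, h3, hi, ?_⟩
  haveI : LocallyOfFinitePresentation (f' ≫ f'' ≫ X.hom) := by rw [hp]; infer_instance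
  exact FppfSource.locallyOfFinitePresentation_of_fppf_comp f' (f'' ≫ X.hom)

variable {G X : Over S} [GrpObj G]

/-- The quotient by a flat stabilizer. -/
theorem exists_orbitQuotient [LocallyOfFinitePresentation G.hom] (a : AlgGrp.Action G X)
    (ξ : 𝟙_ (Over S) ⟶ X) {H : Over S} (h : H ⟶ G)
    (hH : IsPullback h (toUnit H) (a.orbitMap ξ) ξ) (hHf : Flat H.hom)
    (hX : LocallyOfFiniteType X.hom ∨ IsLocallyNoetherian S) :
    ∃ (Q : Over S) (q : G ⟶ Q), RedSub.IsQuotient h q ∧ LocallyOfFinitePresentation Q.hom ∧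
      ∃ m : Q ⟶ X, Mono m ∧ q ≫ m = a.orbitMap ξ := by
  have hfl : Flat (pullback (a.orbitMap ξ) ξ).hom := by
    haveI := hHf
    rw [← Over.w hH.isoPullback.inv]
    haveI : IsIso hH.isoPullback.inv.left := ((Over.forget _).mapIso hH.isoPullback).isIso_inv
    infer_instance
  obtain ⟨Q, p, m, e, h1, h2, h3, h4, h5⟩ :=
    exists_factor_over hX (a.orbitMap ξ) (OrbitQuot19.flat_fst_orbitMap a ξ hfl)
  haveI := h4
  refine ⟨Q, p, ⟨h1, h2, h3, ?_⟩, h5, m, h4, e⟩
  have sq : IsPullback ((G ◁ h) ≫ μ[G]) (fst G H) (a.orbitMap ξ) (a.orbitMap ξ) := by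
    refine IsPullback.of_iso (OrbitQuot19.isPullback_orbitMap a ξ) (whiskerLeftIso G hH.isoPullback.symm)
      (Iso.refl _) (Iso.refl _) (Iso.refl _) ?_ ?_ (by simp) (by simp)
    · rw [whiskerLeftIso_hom, Iso.refl_hom, Category.comp_id, ← MonoidalCategory.whiskerLeft_comp_assoc,
        Iso.symm_hom, hH.isoPullback_inv_fst]
    · simp
  refine IsPullback.flip ⟨⟨?_⟩, ⟨PullbackCone.IsLimit.mk _
    (fun c => sq.lift c.fst c.snd (by rw [← e, ← Category.assoc, c.condition, Category.assoc]))
    (fun c => sq.lift_fst _ _ _) (fun c => sq.lift_snd _ _ _)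
    (fun c k k1 k2 => sq.hom_ext (k1.trans (sq.lift_fst _ _ _).symm) (k2.trans (sq.lift_snd _ _ _).symm))⟩⟩
  rw [← cancel_mono m]
  simpa only [Category.assoc, e] using sq.w

theorem exists_desc_mono {S : Scheme.{u}} {A B Q X : Over S} (P : A ⟶ B) [Surjective P.left] [Flat P.left]
    [LocallyOfFinitePresentation P.left] (c : A ⟶ Q) (i : Q ⟶ X) [Mono i] (k : B ⟶ X) (h : c ≫ i = P ≫ k) :
    ∃ m : B ⟶ Q, m ≫ i = k := by
  haveI : Mono i.left := Over.mono_left_of_mono i
  have e : c.left ≫ i.left = P.left ≫ k.left := congrArg CommaMorphism.left h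
  let m : B.left ⟶ Q.left := EffectiveEpi.desc P.left c.left fun {Z} g₁ g₂ hg => by
    rw [← cancel_mono i.left, Category.assoc, Category.assoc, e, reassoc_of% hg]
  have hm : m ≫ i.left = k.left := by
    rw [← cancel_epi P.left, EffectiveEpi.fac_assoc, e]
  exact ⟨Over.homMk m (by rw [← Over.w i, reassoc_of% hm, Over.w k]), Over.OverMorphism.ext hm⟩

/-- Left translation through a homomorphism. -/
noncomputable def leftAction {S : Scheme.{u}} {G H : Over S} [GrpObj G] [GrpObj H] (u : G ⟶ H) [IsMonHom u] :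
    AlgGrp.Action G H where
  act := (fst G H ≫ u) * snd G H
  one_act := by
    rw [MonObj.comp_mul, whiskerRight_fst_assoc, whiskerRight_snd, IsMonHom.one_hom,
      show fst (𝟙_ (Over S)) H = toUnit _ from toUnit_unique _ _, ← Hom.one_def, _root_.one_mul, leftUnitor_hom]
  mul_act := by
    have hμ : μ[G] ≫ u = (fst G G ≫ u) * (snd G G ≫ u) := by
      rw [IsMonHom.mul_hom, MonObj.mul_eq_mul, MonObj.comp_mul, tensorHom_fst, tensorHom_snd]
    simp only [MonObj.comp_mul, whiskerRight_fst_assoc, whiskerRight_snd, whiskerLeft_fst_assoc, whiskerLeft_snd,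
      associator_hom_fst_assoc, associator_hom_snd_fst_assoc, associator_hom_snd_snd, hμ, _root_.mul_assoc,
      Category.assoc]

theorem leftAction_orbitMap {S : Scheme.{u}} {G H : Over S} [GrpObj G] [GrpObj H] (u : G ⟶ H) [IsMonHom u] :
    (leftAction u).orbitMap η[H] = u := by
  show lift (𝟙 G) (toUnit G ≫ η[H]) ≫ ((fst G H ≫ u) * snd G H) = u
  rw [MonObj.comp_mul, lift_fst_assoc, lift_snd, ← Hom.one_def, _root_.mul_one, Category.id_comp]

/-- The quotient by a flat kernel. -/
theorem exists_kernelQuotient {S : Scheme.{u}} {G H : Over S} [GrpObj G] [GrpObj H]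
    [LocallyOfFinitePresentation G.hom] (hH : LocallyOfFiniteType H.hom ∨ IsLocallyNoetherian S)
    (u : G ⟶ H) [IsMonHom u] {K : Over S} (k : K ⟶ G) (hK : AlgGrp.IsKernel k u) (hKf : Flat K.hom) :
    ∃ (Q : Over S) (_ : GrpObj Q) (q : G ⟶ Q) (_ : IsMonHom q), RedSub.IsQuotient k q ∧
      LocallyOfFinitePresentation Q.hom ∧ ∃ (m : Q ⟶ H) (_ : IsMonHom m), Mono m ∧ q ≫ m = u := by
  obtain ⟨Q, p, ⟨h1, h2, h3, sq⟩, h5, i, h4, e⟩ := exists_orbitQuotient (leftAction u) η[H] k
    (by rw [leftAction_orbitMap]; exact hK) hKf hH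
  rw [leftAction_orbitMap] at e
  haveI := h1; haveI := h2; haveI := h3; haveI := h4
  have hfst : (fst G G ≫ u) * (snd G G ≫ u) = μ[G] ≫ u := by
    rw [IsMonHom.mul_hom, MonObj.mul_eq_mul, MonObj.comp_mul, tensorHom_fst, tensorHom_snd]
  obtain ⟨m, hm⟩ : ∃ m : Q ⊗ Q ⟶ Q, m ≫ i = (fst Q Q ≫ i) * (snd Q Q ≫ i) := by
    haveI : Surjective (p ⊗ₘ p).left :=
      MorphismProperty.pullbackMap (P := @Surjective) h1 h1 (Over.w p).symm (Over.w p).symm
    haveI : Flat (p ⊗ₘ p).left :=
      MorphismProperty.pullbackMap (P := @Flat) h2 h2 (Over.w p).symm (Over.w p).symm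
    haveI : LocallyOfFinitePresentation (p ⊗ₘ p).left :=
      MorphismProperty.pullbackMap (P := @LocallyOfFinitePresentation) h3 h3 (Over.w p).symm (Over.w p).symm
    refine exists_desc_mono (p ⊗ₘ p) (μ[G] ≫ p) i _ ?_
    rw [Category.assoc, e, ← hfst, MonObj.comp_mul, tensorHom_fst_assoc, tensorHom_snd_assoc, e]
  obtain ⟨n, hn⟩ : ∃ n : Q ⟶ Q, n ≫ i = i⁻¹ := by
    refine exists_desc_mono p (ι[G] ≫ p) i _ ?_
    rw [Category.assoc, e, GrpObj.comp_inv, e]
    exact GrpObj.inv_hom u
  have one' : (1 : 𝟙_ (Over S) ⟶ H) = η[H] := by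
    rw [Hom.one_def, toUnit_unique (toUnit (𝟙_ (Over S))) (𝟙 _), Category.id_comp]
  have he : (η[G] ≫ p) ≫ i = 1 := by rw [Category.assoc, e, IsMonHom.one_hom, one']
  letI hQ : GrpObj Q := SubGrp13.grpObjOfMono i hm he hn
  have hp : IsMonHom p := by
    refine ⟨rfl, ?_⟩
    rw [← cancel_mono i, Category.assoc, Category.assoc, e]
    show μ[G] ≫ u = (p ⊗ₘ p) ≫ m ≫ i
    rw [← hfst, hm, MonObj.comp_mul, tensorHom_fst_assoc, tensorHom_snd_assoc, e]
  exact ⟨Q, hQ, p, hp, ⟨h1, h2, h3, sq⟩, h5, i, SubGrp13.isMonHom_grpObjOfMono i hm he hn, h4, e⟩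

end Groth.Agent.QuotFlat20
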